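import Groth.Prelude.Def_CechOX
import Groth.Agent.RelTildeLib.Morph

/-!
# The Čech complex of sheaves is contractible on sections over small opens
-/

set_option autoImplicit false
set_option backward.isDefEq.respectTransparency false
set_option linter.style.haveILetI false

universe u

open CategoryTheory CategoryTheory.Limits AlgebraicGeometry Opposite TopologicalSpace

noncomputable section

namespace Groth.Agent.CechResLib

variable {X : Scheme.{u}} {ι : Type u} (𝒰 : ι → X.Opens) (F : X.Modules)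

/-- The terms. -/
abbrev T (n : ℕ) (i : Fin (n + 1) → ι) : X.Modules := (CechOX.pushRestr (∏ᶜ (𝒰 ∘ i))).obj F

/-- The complex. -/
abbrev cx : CochainComplex X.Modules ℕ := (CechOX.cechSh 𝒰).obj F

theorem prod_le {n : ℕ} (i : Fin (n + 1) → ι) (a : Fin (n + 1)) : ∏ᶜ (𝒰 ∘ i) ≤ 𝒰 (i a) :=
  leOfHom (Pi.π (𝒰 ∘ i) a)

theorem le_prod {n : ℕ} (i : Fin (n + 1) → ι) {W : X.Opens} (h : ∀ a, W ≤ 𝒰 (i a)) : W ≤ ∏ᶜ (𝒰 ∘ i) :=
  leOfHom (Pi.lift fun a => homOfLE (h a) : W ⟶ ∏ᶜ (𝒰 ∘ i))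

theorem prod_comp_le {n m : ℕ} (i : Fin (n + 1) → ι) (g : Fin (m + 1) → Fin (n + 1)) :
    ∏ᶜ (𝒰 ∘ i) ≤ ∏ᶜ (𝒰 ∘ (i ∘ g)) :=
  le_prod 𝒰 _ fun a => prod_le 𝒰 i (g a)

theorem d_π (n : ℕ) (i : Fin (n + 2) → ι) :
    (cx 𝒰 F).d n (n + 1) ≫ Pi.π (T 𝒰 F (n + 1)) i =
      ∑ j : Fin (n + 2), (-1 : ℤ) ^ (j : ℕ) •
        (Pi.π (T 𝒰 F n) (i ∘ j.succAbove) ≫ CechOX.pushRestrMapApp (prod_comp_le 𝒰 i j.succAbove) F) := by
  let X₀ : CosimplicialObject X.Modules :=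
    (FormalCoproduct.cosimplicialObjectFunctor (FormalCoproduct.mk _ 𝒰).cech).obj (CechOX.pushRestrFam.flip.obj F)
  refine (congrArg (· ≫ Pi.π (T 𝒰 F (n + 1)) i)
    (show (cx 𝒰 F).d n (n + 1) = _ from CochainComplex.of_d (fun n => X₀.obj (SimplexCategory.mk n))
      (AlgebraicTopology.AlternatingCofaceMapComplex.objD X₀) n)).trans ?_
  refine (Preadditive.sum_comp _ _ _).trans (Finset.sum_congr rfl fun j _ => ?_)
  rw [Linear.smul_comp]
  exact congrArg (((-1 : ℤ) ^ (j : ℕ)) • ·) (limit.lift_π _ _)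

variable (V : X.Opens)

/-- The sections over `V`. -/
abbrev E : X.Modules ⥤ AddCommGrpCat.{u} :=
  Scheme.Modules.toPresheaf X ⋙ (evaluation _ _).obj (op V)

instance preservesLimits_E : PreservesLimitsOfSize.{u, u} (E (X := X) V) := by
  haveI : PreservesLimitsOfSize.{u, u} ((evaluation _ AddCommGrpCat.{u}).obj (op V) :
      TopCat.Presheaf AddCommGrpCat.{u} X ⥤ AddCommGrpCat.{u}) :=
    inferInstanceAs (PreservesLimitsOfSize.{u, u} ((evaluation (TopologicalSpace.Opens X)ᵒᵖ AddCommGrpCat.{u}).obj (op V)))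
  exact comp_preservesLimits (Scheme.Modules.toPresheaf X) _

instance preservesFiniteProducts_E : PreservesFiniteProducts (E (X := X) V) := by
  haveI : PreservesLimitsOfSize.{0, 0} (E (X := X) V) := preservesSmallestLimits_of_preservesLimits _
  exact ⟨fun n => inferInstance⟩

instance additive_E : (E (X := X) V).Additive := Functor.additive_of_preserves_binary_products _

/-- The part of `V` in an intersection. -/
abbrev im {n : ℕ} (i : Fin (n + 1) → ι) : X.Opens := (CechOX.interFun (∏ᶜ (𝒰 ∘ i))).obj V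

theorem mem_im {W : X.Opens} {x : X} : x ∈ (CechOX.interFun W).obj V ↔ x ∈ W ∧ x ∈ V := by
  show x ∈ W.ι ''ᵁ (W.ι ⁻¹ᵁ V) ↔ _
  rw [Scheme.Hom.image_preimage_eq_opensRange_inf, Scheme.Opens.opensRange_ι]
  rfl

theorem im_mono {n m : ℕ} (i : Fin (n + 1) → ι) (g : Fin (m + 1) → Fin (n + 1)) :
    im 𝒰 V i ≤ im 𝒰 V (i ∘ g) :=
  CechOX.image_preimage_mono (prod_comp_le 𝒰 i g) V

theorem im_le {n : ℕ} (i : Fin (n + 1) → ι) : im 𝒰 V i ≤ V := fun _ hx => ((mem_im V).1 hx).2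

/-- A component followed by a restriction. -/
def cres {n : ℕ} (a : Fin (n + 1) → ι) {B : X.Opens} (h : B ≤ im 𝒰 V a) :
    (E V).obj ((cx 𝒰 F).X n) ⟶ F.presheaf.obj (op B) :=
  (E V).map (Pi.π (T 𝒰 F n) a) ≫ F.presheaf.map (homOfLE h).op

theorem cres_congr {n : ℕ} {a b : Fin (n + 1) → ι} (e : a = b) {B : X.Opens} (h : B ≤ im 𝒰 V a)
    (h' : B ≤ im 𝒰 V b) : cres 𝒰 F V a h = cres 𝒰 F V b h' := by
  subst e
  rfl

theorem cres_res {n : ℕ} (a : Fin (n + 1) → ι) {B B' : X.Opens} (h : B ≤ im 𝒰 V a) (h' : B' ≤ B) :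
    cres 𝒰 F V a h ≫ F.presheaf.map (homOfLE h').op = cres 𝒰 F V a (h'.trans h) := by
  rw [cres, Category.assoc, ← F.presheaf.map_comp]
  rfl

theorem E_d_cres (n : ℕ) (a : Fin (n + 2) → ι) {B : X.Opens} (h : B ≤ im 𝒰 V a) :
    (E V).map ((cx 𝒰 F).d n (n + 1)) ≫ cres 𝒰 F V a h =
      ∑ j : Fin (n + 2), (-1 : ℤ) ^ (j : ℕ) • cres 𝒰 F V (a ∘ j.succAbove) (h.trans (im_mono 𝒰 V a j.succAbove)) := by
  rw [cres, ← Category.assoc, ← (E V).map_comp, d_π, Functor.map_sum, Preadditive.sum_comp]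
  refine Finset.sum_congr rfl fun j _ => ?_
  rw [Functor.map_zsmul, Preadditive.zsmul_comp, Functor.map_comp, Category.assoc]
  refine congrArg (((-1 : ℤ) ^ (j : ℕ)) • ·) (congrArg (_ ≫ ·) ?_)
  show F.presheaf.map _ ≫ F.presheaf.map _ = F.presheaf.map _
  rw [← F.presheaf.map_comp]
  rfl

variable {V} {k : ι} (hk : V ≤ 𝒰 k)

include hk in
theorem im_cons {n : ℕ} (i : Fin (n + 1) → ι) : im 𝒰 V i ≤ im 𝒰 V (Fin.cons k i) := fun x hx => by
  refine (mem_im V).2 ⟨le_prod 𝒰 _ (W := (∏ᶜ (𝒰 ∘ i)) ⊓ V) (fun a => ?_) ⟨((mem_im V).1 hx).1, ((mem_im V).1 hx).2⟩, ((mem_im V).1 hx).2⟩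
  cases a using Fin.cases with
  | zero => simpa using inf_le_right.trans hk
  | succ a => simpa using inf_le_left.trans (prod_le 𝒰 i a)

/-- The contraction. -/
def σ (n : ℕ) : (E V).obj ((cx 𝒰 F).X (n + 1)) ⟶ (E V).obj ((cx 𝒰 F).X n) :=
  Pi.lift (fun i => cres 𝒰 F V (Fin.cons k i) (im_cons 𝒰 hk i)) ≫ (PreservesProduct.iso (E V) (T 𝒰 F n)).inv

theorem σ_cres (n : ℕ) (a : Fin (n + 1) → ι) {B : X.Opens} (h : B ≤ im 𝒰 V a) :
    σ 𝒰 F hk n ≫ cres 𝒰 F V a h = cres 𝒰 F V (Fin.cons k a) (h.trans (im_cons 𝒰 hk a)) := by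
  have e : (PreservesProduct.iso (E V) (T 𝒰 F n)).inv ≫ (E V).map (Pi.π (T 𝒰 F n) a) =
      Pi.π (fun i => (E V).obj (T 𝒰 F n i)) a := by
    rw [Iso.inv_comp_eq, PreservesProduct.iso_hom, piComparison_comp_π]
  refine Eq.trans ?_ (cres_res 𝒰 F V _ (im_cons 𝒰 hk a) h)
  refine ((Category.assoc _ _ _).trans (congrArg (_ ≫ ·) ((Category.assoc _ _ _).symm.trans
    (congrArg (· ≫ _) e)))).trans ?_
  exact (Category.assoc _ _ _).symm.trans (congrArg (· ≫ _) (limit.lift_π _ _))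

theorem ext_cres {T' : AddCommGrpCat.{u}} {n : ℕ} {a b : T' ⟶ (E V).obj ((cx 𝒰 F).X n)}
    (h : ∀ i, a ≫ cres 𝒰 F V i le_rfl = b ≫ cres 𝒰 F V i le_rfl) : a = b := by
  refine (cancel_mono (PreservesProduct.iso (E V) (T 𝒰 F n)).hom).1 (Pi.hom_ext _ _ fun i => ?_)
  simp only [PreservesProduct.iso_hom, Category.assoc, piComparison_comp_π]
  have := h i
  simp only [cres, homOfLE_refl, op_id, CategoryTheory.Functor.map_id, Category.comp_id] at this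
  exact this

theorem homotopy_eq (n : ℕ) :
    (E V).map ((cx 𝒰 F).d (n + 1) (n + 1 + 1)) ≫ σ 𝒰 F hk (n + 1) +
      σ 𝒰 F hk n ≫ (E V).map ((cx 𝒰 F).d n (n + 1)) = 𝟙 _ := by
  refine ext_cres 𝒰 F fun i => ?_
  simp only [Preadditive.add_comp, Category.assoc, σ_cres, E_d_cres, Preadditive.comp_sum, Preadditive.comp_zsmul,
    Category.id_comp]
  rw [Fin.sum_univ_succ (n := n + 2)]
  have h0 : (Fin.cons k i : Fin (n + 3) → ι) ∘ (0 : Fin (n + 3)).succAbove = i := by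
    funext a; simp
  have hs : ∀ j : Fin (n + 2), (Fin.cons k i : Fin (n + 3) → ι) ∘ j.succ.succAbove = Fin.cons k (i ∘ j.succAbove) := by
    intro j; funext a; cases a using Fin.cases <;> simp
  simp only [Fin.val_zero, pow_zero, one_smul, Fin.val_succ, pow_succ, mul_neg, mul_one, neg_smul]
  rw [Finset.sum_neg_distrib, add_assoc]
  refine (congrArg₂ (· + ·) (cres_congr 𝒰 F V h0 _ le_rfl) ?_).trans (add_zero _)
  rw [neg_add_eq_zero]
  exact Finset.sum_congr rfl fun j _ => congrArg (((-1 : ℤ) ^ (j : ℕ)) • ·) (cres_congr 𝒰 F V (hs j) _ _)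

theorem aug_π (i : Fin 1 → ι) : CechOX.cechShAug 𝒰 F ≫ Pi.π (T 𝒰 F 0) i =
    (Scheme.Modules.restrictAdjunction (∏ᶜ (𝒰 ∘ i)).ι).unit.app F :=
  limit.lift_π _ _

variable (V) in
theorem E_aug_cres (i : Fin 1 → ι) {B : X.Opens} (h : B ≤ im 𝒰 V i) :
    (E V).map (CechOX.cechShAug 𝒰 F) ≫ cres 𝒰 F V i h = F.presheaf.map (homOfLE (h.trans (im_le 𝒰 V i))).op := by
  rw [cres, ← Category.assoc, ← (E V).map_comp, aug_π]
  have e : (E V).map ((Scheme.Modules.restrictAdjunction (∏ᶜ (𝒰 ∘ i)).ι).unit.app F) =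
      F.presheaf.map (homOfLE ((∏ᶜ (𝒰 ∘ i)).ι.image_preimage_le V)).op :=
    Scheme.Modules.restrictAdjunction_unit_app_app _ F V
  refine (congrArg (· ≫ F.presheaf.map (homOfLE h).op) e).trans ?_
  exact (F.presheaf.map_comp _ _).symm

include hk in
theorem le_im_const : V ≤ im 𝒰 V (fun _ : Fin 1 => k) := fun _ hx =>
  (mem_im V).2 ⟨le_prod 𝒰 _ (fun _ => hk) hx, hx⟩

/-- The first contraction. -/
def σ₀ : (E V).obj ((cx 𝒰 F).X 0) ⟶ (E V).obj F := cres 𝒰 F V (fun _ : Fin 1 => k) (le_im_const 𝒰 hk)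

theorem aug_σ₀ : (E V).map (CechOX.cechShAug 𝒰 F) ≫ σ₀ 𝒰 F hk = 𝟙 _ := by
  refine (E_aug_cres 𝒰 F V _ _).trans ?_
  exact F.presheaf.map_id _

theorem homotopy_eq_zero :
    (E V).map ((cx 𝒰 F).d 0 1) ≫ σ 𝒰 F hk 0 + σ₀ 𝒰 F hk ≫ (E V).map (CechOX.cechShAug 𝒰 F) = 𝟙 _ := by
  refine ext_cres 𝒰 F fun i => ?_
  simp only [Preadditive.add_comp, Category.assoc, σ_cres, E_d_cres, E_aug_cres, Category.id_comp]
  rw [Fin.sum_univ_two, σ₀, cres_res]
  simp only [Fin.val_zero, pow_zero, one_smul, Fin.val_one, pow_one, neg_smul]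
  have h0 : (Fin.cons k i : Fin 2 → ι) ∘ (0 : Fin 2).succAbove = i := by funext a; simp
  have h1 : (Fin.cons k i : Fin 2 → ι) ∘ (1 : Fin 2).succAbove = fun _ => k := by
    funext a; fin_cases a; rfl
  rw [cres_congr 𝒰 F V h0 _ le_rfl, cres_congr 𝒰 F V h1 _ (le_trans (im_le 𝒰 V i) (le_im_const 𝒰 hk))]
  exact (add_assoc _ _ _).trans (by rw [neg_add_cancel, add_zero])

end Groth.Agent.CechResLib
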