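import Groth.Agent.CechResLib.Contract

/-!
# The Čech complex of sheaves of a covering is a resolution
-/

set_option autoImplicit false
set_option backward.isDefEq.respectTransparency false
set_option linter.style.haveILetI false

universe u

open CategoryTheory CategoryTheory.Limits AlgebraicGeometry Opposite TopologicalSpace

noncomputable section

namespace Groth.Agent.CechResLib

variable {X : Scheme.{u}} {ι : Type u} (𝒰 : ι → X.Opens) (h𝒰 : ⨆ i, 𝒰 i = ⊤) (F : X.Modules)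

theorem aug_d : CechOX.cechShAug 𝒰 F ≫ (cx 𝒰 F).d 0 1 = 0 := by
  refine Pi.hom_ext (f := T 𝒰 F 1) _ _ fun i => ?_
  apply Scheme.Modules.hom_ext
  intro V
  show (E V).map ((CechOX.cechShAug 𝒰 F ≫ (cx 𝒰 F).d 0 1) ≫ Pi.π (T 𝒰 F 1) i) = (E V).map (0 ≫ Pi.π (T 𝒰 F 1) i)
  rw [zero_comp, Functor.map_zero]
  have h : (E V).map (CechOX.cechShAug 𝒰 F) ≫ (E V).map ((cx 𝒰 F).d 0 1) ≫ cres 𝒰 F V i le_rfl = 0 := by
    rw [E_d_cres, Fin.sum_univ_two, Preadditive.comp_add, Preadditive.comp_zsmul, Preadditive.comp_zsmul,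
      E_aug_cres, E_aug_cres]
    simp only [Fin.val_zero, pow_zero, one_smul, Fin.val_one, pow_one, neg_smul, add_neg_cancel]
  refine Eq.trans ?_ h
  rw [(E V).map_comp, (E V).map_comp, Category.assoc]
  refine congrArg ((E V).map (CechOX.cechShAug 𝒰 F) ≫ ·) (congrArg ((E V).map ((cx 𝒰 F).d 0 1) ≫ ·) ?_)
  exact ((congrArg ((E V).map (Pi.π (T 𝒰 F 1) i) ≫ ·) (F.presheaf.map_id _)).trans (Category.comp_id _)).symm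

include h𝒰 in
theorem exists_mem (x : X) : ∃ k, x ∈ 𝒰 k := Opens.mem_iSup.1 (h𝒰.ge (trivial : x ∈ (⊤ : X.Opens)))

include h𝒰 in
theorem mono_aug : Mono (CechOX.cechShAug 𝒰 F) := by
  refine RelTildeLib.mono_of_app_injective _ fun W s s' e => ?_
  refine TopCat.Sheaf.eq_of_locally_eq' ((QCohLib.toAbF X).obj F) (fun k => W ⊓ 𝒰 k) W
    (fun k => homOfLE inf_le_left) (fun x hx => ?_) s s' fun k => ?_
  · obtain ⟨k, hk⟩ := exists_mem 𝒰 h𝒰 x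
    exact Opens.mem_iSup.2 ⟨k, hx, hk⟩
  · have hnat := ConcreteCategory.congr_hom
      ((CechOX.cechShAug 𝒰 F).mapPresheaf.naturality (homOfLE (inf_le_left : W ⊓ 𝒰 k ≤ W)).op)
    have hinj : Function.Injective ((E (W ⊓ 𝒰 k)).map (CechOX.cechShAug 𝒰 F)) :=
      Function.LeftInverse.injective (g := σ₀ 𝒰 F (inf_le_right : W ⊓ 𝒰 k ≤ 𝒰 k)) fun t =>
        ConcreteCategory.congr_hom (aug_σ₀ 𝒰 F (inf_le_right : W ⊓ 𝒰 k ≤ 𝒰 k)) t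
    exact hinj ((hnat s).trans ((congrArg _ e).trans (hnat s').symm))

include h𝒰 in
theorem exact_aug : (ShortComplex.mk _ _ (aug_d 𝒰 F)).Exact := by
  refine RelTildeLib.exact_of_local _ _ _ fun W s hs x hx => ?_
  obtain ⟨k, hk⟩ := exists_mem 𝒰 h𝒰 x
  refine ⟨W ⊓ 𝒰 k, inf_le_left, ⟨hx, hk⟩,
    σ₀ 𝒰 F (inf_le_right : W ⊓ 𝒰 k ≤ 𝒰 k) (((cx 𝒰 F).X 0).presheaf.map (homOfLE (inf_le_left : W ⊓ 𝒰 k ≤ W)).op s), ?_⟩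
  have h := ConcreteCategory.congr_hom (homotopy_eq_zero 𝒰 F (inf_le_right : W ⊓ 𝒰 k ≤ 𝒰 k))
    (((cx 𝒰 F).X 0).presheaf.map (homOfLE (inf_le_left : W ⊓ 𝒰 k ≤ W)).op s)
  have hz : ((cx 𝒰 F).d 0 1).app (W ⊓ 𝒰 k) (((cx 𝒰 F).X 0).presheaf.map (homOfLE (inf_le_left : W ⊓ 𝒰 k ≤ W)).op s) = 0 := by
    refine (ConcreteCategory.congr_hom (((cx 𝒰 F).d 0 1).mapPresheaf.naturality (homOfLE inf_le_left).op) s).trans ?_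
    exact (congrArg (fun t => ((cx 𝒰 F).X 1).presheaf.map (homOfLE (inf_le_left : W ⊓ 𝒰 k ≤ W)).op t) hs).trans
      (map_zero (((cx 𝒰 F).X 1).presheaf.map (homOfLE (inf_le_left : W ⊓ 𝒰 k ≤ W)).op).hom)
  have h2 : σ 𝒰 F (inf_le_right : W ⊓ 𝒰 k ≤ 𝒰 k) 0 (((cx 𝒰 F).d 0 1).app (W ⊓ 𝒰 k)
      (((cx 𝒰 F).X 0).presheaf.map (homOfLE (inf_le_left : W ⊓ 𝒰 k ≤ W)).op s)) +
      (E (W ⊓ 𝒰 k)).map (CechOX.cechShAug 𝒰 F) (σ₀ 𝒰 F (inf_le_right : W ⊓ 𝒰 k ≤ 𝒰 k)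
        (((cx 𝒰 F).X 0).presheaf.map (homOfLE (inf_le_left : W ⊓ 𝒰 k ≤ W)).op s)) =
      ((cx 𝒰 F).X 0).presheaf.map (homOfLE (inf_le_left : W ⊓ 𝒰 k ≤ W)).op s := h
  exact (((congrArg (· + _) ((congrArg (σ 𝒰 F (inf_le_right : W ⊓ 𝒰 k ≤ 𝒰 k) 0) hz).trans
    (map_zero (σ 𝒰 F (inf_le_right : W ⊓ 𝒰 k ≤ 𝒰 k) 0).hom))).trans (zero_add _)).symm).trans h2

include h𝒰 in
theorem isZero_homology (p : ℕ) : IsZero ((cx 𝒰 F).homology (p + 1)) := by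
  rw [← HomologicalComplex.exactAt_iff_isZero_homology,
    HomologicalComplex.exactAt_iff' _ p (p + 1) (p + 1 + 1) (by simp) (by simp)]
  refine RelTildeLib.exact_of_local _ _ _ fun W s hs x hx => ?_
  obtain ⟨k, hk⟩ := exists_mem 𝒰 h𝒰 x
  refine ⟨W ⊓ 𝒰 k, inf_le_left, ⟨hx, hk⟩,
    σ 𝒰 F (inf_le_right : W ⊓ 𝒰 k ≤ 𝒰 k) p (((cx 𝒰 F).X (p + 1)).presheaf.map (homOfLE (inf_le_left : W ⊓ 𝒰 k ≤ W)).op s), ?_⟩
  have h := ConcreteCategory.congr_hom (homotopy_eq 𝒰 F (inf_le_right : W ⊓ 𝒰 k ≤ 𝒰 k) p)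
    (((cx 𝒰 F).X (p + 1)).presheaf.map (homOfLE (inf_le_left : W ⊓ 𝒰 k ≤ W)).op s)
  have hz : ((cx 𝒰 F).d (p + 1) (p + 1 + 1)).app (W ⊓ 𝒰 k)
      (((cx 𝒰 F).X (p + 1)).presheaf.map (homOfLE (inf_le_left : W ⊓ 𝒰 k ≤ W)).op s) = 0 := by
    refine (ConcreteCategory.congr_hom (((cx 𝒰 F).d (p + 1) (p + 1 + 1)).mapPresheaf.naturality (homOfLE inf_le_left).op) s).trans ?_
    exact (congrArg (fun t => ((cx 𝒰 F).X (p + 1 + 1)).presheaf.map (homOfLE (inf_le_left : W ⊓ 𝒰 k ≤ W)).op t) hs).trans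
      (map_zero (((cx 𝒰 F).X (p + 1 + 1)).presheaf.map (homOfLE (inf_le_left : W ⊓ 𝒰 k ≤ W)).op).hom)
  have h2 : σ 𝒰 F (inf_le_right : W ⊓ 𝒰 k ≤ 𝒰 k) (p + 1) (((cx 𝒰 F).d (p + 1) (p + 1 + 1)).app (W ⊓ 𝒰 k)
      (((cx 𝒰 F).X (p + 1)).presheaf.map (homOfLE (inf_le_left : W ⊓ 𝒰 k ≤ W)).op s)) +
      (E (W ⊓ 𝒰 k)).map ((cx 𝒰 F).d p (p + 1)) (σ 𝒰 F (inf_le_right : W ⊓ 𝒰 k ≤ 𝒰 k) p
        (((cx 𝒰 F).X (p + 1)).presheaf.map (homOfLE (inf_le_left : W ⊓ 𝒰 k ≤ W)).op s)) =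
      ((cx 𝒰 F).X (p + 1)).presheaf.map (homOfLE (inf_le_left : W ⊓ 𝒰 k ≤ W)).op s := h
  exact (((congrArg (· + _) ((congrArg (σ 𝒰 F (inf_le_right : W ⊓ 𝒰 k ≤ 𝒰 k) (p + 1)) hz).trans
    (map_zero (σ 𝒰 F (inf_le_right : W ⊓ 𝒰 k ≤ 𝒰 k) (p + 1)).hom))).trans (zero_add _)).symm).trans h2

end Groth.Agent.CechResLib
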